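import Groth.Agent.StrictModLib.Basic
import Groth.Agent.GrModLib6.Rel
import Groth.Agent.QCohLib.Push
import Mathlib.AlgebraicGeometry.Noetherian
import Mathlib.RingTheory.Ideal.Operations

/-! Quasi-coherence of strict transforms on noetherian schemes. -/

set_option autoImplicit false
universe u

open CategoryTheory CategoryTheory.Limits AlgebraicGeometry TopologicalSpace Opposite

namespace StrictModLib

variable {X : Scheme.{u}}

/-- On a noetherian scheme the power-torsion sections are those vanishing off the support. -/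
theorem killed_iff_res_eq_zero [IsLocallyNoetherian X] (E : X.IdealSheafData) (M : X.Modules) [Coh.IsQCoh M]
    (V : X.affineOpens) (m : M.presheaf.obj (op V.1)) (W : X.Opens) (hWV : W ≤ V.1)
    (hW : ∀ x : X, x ∈ W ↔ x ∈ V.1 ∧ x ∉ E.support) :
    BlowUp.KilledByPowerNear E M V m ↔ M.presheaf.map (homOfLE hWV).op m = 0 := by
  have hsupp : ∀ x : X, x ∈ V.1 → (x ∉ E.support ↔ ∃ a ∈ E.ideal V, x ∈ X.basicOpen a) := fun x hx => by
    rw [Scheme.IdealSheafData.mem_support_iff_of_mem (U := V) hx, Scheme.mem_zeroLocus_iff]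
    push Not
    rfl
  constructor
  · rintro ⟨n, hn⟩
    refine TopCat.Presheaf.section_ext ((QCohLib.toAbF X).obj M : TopCat.Sheaf AddCommGrpCat _) W _ 0
      fun x hx => ?_
    show M.presheaf.germ W x hx (M.presheaf.map (homOfLE hWV).op m) = M.presheaf.germ W x hx 0
    rw [map_zero, TopCat.Presheaf.germ_res_apply]
    obtain ⟨hxV, hxE⟩ := (hW x).mp hx
    obtain ⟨a, ha, hxa⟩ := (hsupp x hxV).mp hxE
    have h : X.presheaf.germ V.1 x hxV (a ^ n) • M.presheaf.germ V.1 x hxV m = 0 := by
      rw [← FlatLib.germ_smul_mod, hn (a ^ n) ?_, map_zero]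
      rw [Scheme.IdealSheafData.ideal_pow, Pi.pow_apply]
      exact Ideal.pow_mem_pow ha n
    rw [map_pow] at h
    rw [Scheme.mem_basicOpen _ _ x hxV] at hxa
    exact (hxa.pow n).smul_left_cancel.mp (h.trans (smul_zero _).symm)
  · intro h
    haveI : IsNoetherianRing Γ(X, V.1) := IsLocallyNoetherian.component_noetherian V
    let A : Ideal Γ(X, V.1) :=
      { carrier := {a | a • m = 0}
        add_mem' := fun {a b} ha hb => by
          show (a + b) • m = 0
          rw [add_smul, ha, hb, add_zero]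
        zero_mem' := zero_smul _ _
        smul_mem' := fun c a ha => by
          show (c * a) • m = 0
          rw [mul_smul, ha, smul_zero] }
    have hrad : E.ideal V ≤ A.radical := fun a ha => by
      have hle : X.basicOpen a ≤ W := fun x hx =>
        (hW x).mpr ⟨X.basicOpen_le a hx, (hsupp x (X.basicOpen_le a hx)).mpr ⟨a, ha, hx⟩⟩
      have h1 := congrArg (M.presheaf.map (homOfLE hle).op) h
      rw [QCohLib.map_map', map_zero] at h1
      obtain ⟨n, hn⟩ := (QCohLib.localizingAt_of_isQCoh V.2 M a).eq_zero m h1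
      refine ⟨n, ?_⟩
      show a ^ n • m = 0
      rwa [show homOfLE (le_refl V.1) = 𝟙 V.1 from rfl, op_id, X.presheaf.map_id, CommRingCat.id_apply] at hn
    obtain ⟨n, hn⟩ := Ideal.exists_pow_le_of_le_radical_of_fg hrad (IsNoetherian.noetherian _)
    refine ⟨n, fun a ha => hn ?_⟩
    rwa [Scheme.IdealSheafData.ideal_pow, Pi.pow_apply] at ha

/-- A module with power-torsion kernel under an epimorphism from a quasi-coherent one is quasi-coherent. -/
theorem isQCoh_of_strict [IsNoetherian X] (E : X.IdealSheafData) {P G : X.Modules} [Coh.IsQCoh P] (π : P ⟶ G)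
    [Epi π] (h : ∀ (V : X.affineOpens) (m : P.presheaf.obj (op V.1)),
      π.app V.1 m = 0 ↔ BlowUp.KilledByPowerNear E P V m) : Coh.IsQCoh G := by
  let W : X.Opens := E.support.compl
  let η : P ⟶ (Scheme.Modules.pushforward W.ι).obj ((Scheme.Modules.restrictFunctor W.ι).obj P) :=
    (Scheme.Modules.restrictAdjunction W.ι).unit.app P
  haveI : Coh.IsQCoh ((Scheme.Modules.pushforward W.ι).obj ((Scheme.Modules.restrictFunctor W.ι).obj P)) :=
    QCohLib.isQCoh_pushforward W.ι ((Scheme.Modules.restrictFunctor W.ι).obj P)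
  have hk : ∀ (V : X.affineOpens) (m : P.presheaf.obj (op V.1)), π.app V.1 m = 0 ↔ η.app V.1 m = 0 := fun V m =>
    (h V m).trans (killed_iff_res_eq_zero E P V m _ (W.ι.image_preimage_le V.1) fun x => by
      constructor
      · rintro ⟨y, hy, rfl⟩
        exact ⟨hy, y.2⟩
      · rintro ⟨hx, hxE⟩
        exact ⟨⟨x, hxE⟩, hx, rfl⟩)
  have key : ∀ {T₁ T₂ : X.Modules} (p : P ⟶ T₁) (q : P ⟶ T₂),
      (∀ (V : X.affineOpens) (m : P.presheaf.obj (op V.1)), p.app V.1 m = 0 → q.app V.1 m = 0) →
        kernel.ι p ≫ q = 0 := fun {T₁ T₂} p q hpq => by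
    refine Scheme.Modules.hom_ext _ _ fun V => ConcreteCategory.hom_ext _ _ fun s => ?_
    refine GrModLib6.eq_zero_of_locally (q.app V ((kernel.ι p).app V s)) fun x hx => ?_
    obtain ⟨U, hU, hxU, hUV⟩ := Opens.isBasis_iff_nbhd.mp X.isBasis_affineOpens hx
    refine ⟨U, hUV, hxU, (QCohLib.app_map q (homOfLE hUV) _).symm.trans (hpq ⟨U, hU⟩ _ ?_)⟩
    rw [← QCohLib.app_map (kernel.ι p) (homOfLE hUV) s]
    exact congrArg (fun θ : kernel p ⟶ T₁ => θ.app U ((kernel p).presheaf.map (homOfLE hUV).op s)) (kernel.condition p)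
  haveI := QCohLib.isQCoh_kernel η
  let e : kernel η ≅ kernel π :=
    { hom := kernel.lift π (kernel.ι η) (key η π fun V m => (hk V m).mpr)
      inv := kernel.lift η (kernel.ι π) (key π η fun V m => (hk V m).mp)
      hom_inv_id := by rw [← cancel_mono (kernel.ι η), Category.assoc, kernel.lift_ι, kernel.lift_ι, Category.id_comp]
      inv_hom_id := by rw [← cancel_mono (kernel.ι π), Category.assoc, kernel.lift_ι, kernel.lift_ι, Category.id_comp] }
  let S : ShortComplex X.Modules := ShortComplex.mk (kernel.ι π) π (kernel.condition π)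
  haveI : Coh.IsQCoh S.X₁ := QCohLib.isQCoh_of_iso e
  haveI : Coh.IsQCoh S.X₂ := ‹Coh.IsQCoh P›
  exact QCohLib.isQCoh_of_exact_right
    (ShortComplex.exact_of_f_is_kernel S (kernelIsKernel π)) (inferInstance : Epi π)

end StrictModLib
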