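import Groth.Agent.RGFlatLib.Separate
import Groth.Agent.NagataCompLib.GluePair
import Groth.Agent.LocImmLib.Modify

/-! Separating the closures of clopen pieces by blowing up. -/

set_option autoImplicit false
universe u

open CategoryTheory CategoryTheory.Limits AlgebraicGeometry TopologicalSpace

namespace StrictModLib

/-- An open immersion lifts through a blow-up whose centre misses it, with the same pieces. -/
theorem exists_lift_openImmersion {X Y Y' : Scheme.{u}} (j : X ⟶ Y) [IsOpenImmersion j] {b : Y' ⟶ Y}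
    {K : Y.IdealSheafData} (hb : BlowUp.IsBlowUp b K) (hd : Disjoint (K.support : Set Y) (Set.range j)) :
    ∃ u : X ⟶ Y', IsOpenImmersion u ∧ u ≫ b = j ∧ ∀ T : Set X, u '' T = b ⁻¹' (j '' T) := by
  haveI : IsIso (b ∣_ j.opensRange) :=
    EffCartLib.isIso_off_center K b hb j.opensRange fun x hx hx' => Set.disjoint_left.mp hd hx' hx
  let u : X ⟶ Y' := j.isoOpensRange.hom ≫ inv (b ∣_ j.opensRange) ≫ (b ⁻¹ᵁ j.opensRange).ι
  have hu : u ≫ b = j := by
    simp only [u, Category.assoc, ← morphismRestrict_ι, IsIso.inv_hom_id_assoc, Scheme.Hom.isoOpensRange_hom_ι]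
  refine ⟨u, inferInstance, hu, fun T => Set.ext fun y => ?_⟩
  have hbu : ∀ x, b (u x) = j x := fun x => by rw [← Scheme.Hom.comp_apply, hu]
  constructor
  · rintro ⟨x, hx, rfl⟩
    exact ⟨x, hx, (hbu x).symm⟩
  · rintro ⟨x, hx, hy⟩
    have hy' : y ∈ b ⁻¹ᵁ j.opensRange := ⟨x, hy⟩
    have hux : u x ∈ b ⁻¹ᵁ j.opensRange := ⟨x, (hbu x).symm⟩
    refine ⟨x, hx, congrArg Subtype.val (a₁ := (⟨u x, hux⟩ : (b ⁻¹ᵁ j.opensRange : Scheme.{u}))) (a₂ := ⟨y, hy'⟩) ?_⟩
    refine (ConcreteCategory.bijective_of_isIso (b ∣_ j.opensRange).base).1 (Subtype.ext ?_)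
    rw [morphismRestrict_base_coe, morphismRestrict_base_coe]
    exact (hbu x).trans hy

/-- Blow-ups making the closures of finitely many clopen pieces disjoint from those of their complements. -/
theorem exists_disjoint_closures (Q : MorphismProperty Scheme.{u}) [Q.IsMultiplicative]
    (hblow : ∀ ⦃A B : Scheme.{u}⦄ [IsNoetherian B] (b : A ⟶ B) (I : B.IdealSheafData), BlowUp.IsBlowUp b I → Q b)
    {X : Scheme.{u}} (Ts : List (Set X)) (hTs : ∀ T ∈ Ts, IsClopen T) :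
    ∀ {Y : Scheme.{u}} [IsNoetherian Y] (j : X ⟶ Y) [IsOpenImmersion j],
      ∃ (Y' : Scheme.{u}) (h : Y' ⟶ Y) (j' : X ⟶ Y'), IsNoetherian Y' ∧ Q h ∧ IsOpenImmersion j' ∧ j' ≫ h = j ∧
        ∀ T ∈ Ts, Disjoint (closure (j' '' T)) (closure (j' '' Tᶜ)) := by
  induction Ts with
  | nil =>
    intro Y _ j _
    exact ⟨Y, 𝟙 Y, j, inferInstance, Q.id_mem Y, inferInstance, Category.comp_id j, fun _ h => nomatch h⟩
  | cons T Ts ih =>
    intro Y _ j _
    obtain ⟨Y₁, h₁, j₁, _, hQ₁, _, hj₁, hd₁⟩ := ih (fun S hS => hTs S (List.mem_cons_of_mem T hS)) j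
    let V := j₁.opensRange
    let W : Y₁.Opens := j₁ ''ᵁ ⟨T, (hTs T List.mem_cons_self).2⟩
    have hTV : j₁ '' T ⊆ V := by rintro _ ⟨x, -, rfl⟩; exact ⟨x, rfl⟩
    have hTcl : IsClosed (Subtype.val ⁻¹' (j₁ '' T) : Set V) := by
      refine ⟨?_⟩
      rw [show (Subtype.val ⁻¹' (j₁ '' T) : Set V)ᶜ = Subtype.val ⁻¹' (j₁ '' Tᶜ) from Set.ext fun y => ?_]
      · exact (j₁.isOpenEmbedding.isOpenMap _ (hTs T List.mem_cons_self).1.isOpen_compl).preimage continuous_subtype_val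
      · obtain ⟨x, hx⟩ := y.2
        constructor
        · exact fun h => ⟨x, fun hxT => h ⟨x, hxT, hx⟩, hx⟩
        · rintro ⟨x', hx', hxy⟩ ⟨x'', hx'', hxy'⟩
          exact hx' (j₁.isOpenEmbedding.injective (hxy.trans hxy'.symm) ▸ hx'')
    obtain ⟨K, Y', b, O, hb, hK, -, hTO, hOV⟩ := RGFlatLib.exists_separating V
      (NoetherianSpace.isCompact _) (j₁ '' T) hTV hTcl (W := W) (fun _ h => h)
    haveI : IsNoetherian Y' := Groth.Agent.LocImmLib.isNoetherian_of_isBlowUp hb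
    obtain ⟨u, hu, hub, himg⟩ := exists_lift_openImmersion j₁ hb hK.2
    refine ⟨Y', b ≫ h₁, u, inferInstance, Q.comp_mem b h₁ (hblow b K hb) hQ₁, hu,
      by rw [← Category.assoc, hub, hj₁], fun S hS => ?_⟩
    rw [himg, himg]
    rcases List.mem_cons.mp hS with rfl | hS
    · rw [Set.disjoint_left]
      intro y hy hy'
      obtain ⟨z, hzO, hz⟩ := mem_closure_iff.mp hy' O O.isOpen (hTO hy)
      obtain ⟨x, hx, hxz⟩ := hz
      obtain ⟨x', hx', hxz'⟩ := hOV ⟨hzO, show b z ∈ V from ⟨x, hxz⟩⟩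
      exact hx (j₁.isOpenEmbedding.injective (hxz.trans hxz'.symm) ▸ hx')
    · exact Disjoint.mono (b.continuous.closure_preimage_subset _) (b.continuous.closure_preimage_subset _)
        ((hd₁ S hS).preimage b)

end StrictModLib
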