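import Groth.Agent.StrictModLib.Rank
import Groth.Agent.StrictModLib.Separate
import Groth.Agent.StrictModLib.QCoh
import Groth.Agent.S2250
import Groth.Agent.ModPairLib.Basic
import Groth.Agent.RGFlatLib.Local

/-! Finite locally free modules extend after modifying a compactification. -/

set_option autoImplicit false
universe u v

open CategoryTheory CategoryTheory.Limits AlgebraicGeometry TopologicalSpace Opposite

namespace StrictModLib

/-- Coherent modules extend along open immersions into noetherian schemes. -/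
theorem exists_coh_extend {X Y : Scheme.{u}} [IsNoetherian Y] (j : X ⟶ Y) [IsOpenImmersion j] (E : X.Modules)
    (hE : Coh.IsCoh E) :
    ∃ E' : Y.Modules, Coh.IsCoh E' ∧ Nonempty ((Scheme.Modules.pullback j).obj E' ≅ E) := by
  let U := j.opensRange
  let e : X ≅ U := j.isoOpensRange
  haveI := hE.1
  let G := (Scheme.Modules.pullback e.inv).obj E
  haveI : Coh.IsQCoh G := KFlatLib.isQCoh_pullback e.inv E
  have hG : CohB1.IsFT G := ConsLib.isFT_pullback e.inv E hE.2
  haveI : IsLocallyNoetherian (U : Scheme.{u}) := LocallyOfFiniteType.isLocallyNoetherian U.ι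
  haveI : Coh.IsQCoh ((Scheme.Modules.pushforward U.ι).obj G) := QCohLib.isQCoh_pushforward U.ι G
  let c := (Scheme.Modules.restrictFunctorAdjCounitIso U.ι).app G
  obtain ⟨G', -, eG, -, hG'q, hG', -⟩ := Groth.Agent.S2250.result
    (fun y => ⟨⊤, trivial, inferInstance⟩) U ((Scheme.Modules.pushforward U.ι).obj G) G c.inv hG
  refine ⟨G', ⟨hG'q, hG'⟩, ⟨?_⟩⟩
  refine (Scheme.Modules.pullbackCongr (j.isoOpensRange_hom_ι).symm).app G' ≪≫
    ((Scheme.Modules.pullbackComp e.hom U.ι).app G').symm ≪≫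
    (Scheme.Modules.pullback e.hom).mapIso
      (((Scheme.Modules.restrictFunctorIsoPullback U.ι).app G').symm ≪≫ eG) ≪≫
    (Scheme.Modules.pullbackComp e.hom e.inv).app E ≪≫
    (Scheme.Modules.pullbackCongr e.hom_inv_id).app E ≪≫ (Scheme.Modules.pullbackId X).app E

/-- Ideals agreeing after pulling back to an affine open have the same sections there. -/
theorem ideal_eq_of_comap {X : Scheme.{u}} (I J : X.IdealSheafData) (O : X.affineOpens)
    (h : I.comap O.1.ι = J.comap O.1.ι) : I.ideal O = J.ideal O := by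
  haveI : IsAffine (O.1 : Scheme.{u}) := O.2
  have e : (⊤ : (O.1 : Scheme.{u}).Opens) ≤ O.1.ι ⁻¹ᵁ O.1 := le_of_eq O.1.ι_preimage_self.symm
  have h1 := Groth.Agent.S4666.ideal_comap_eq I O.1.ι O ⟨⊤, isAffineOpen_top _⟩ e
  rw [h, Groth.Agent.S4666.ideal_comap_eq J O.1.ι O ⟨⊤, isAffineOpen_top _⟩ e] at h1
  have hbij : Function.Bijective (O.1.ι.appLE O.1 ⊤ e).hom := by
    rw [Scheme.Opens.ι_appLE, Subsingleton.elim (homOfLE _) (eqToHom O.1.ι_image_top)]
    exact ConcreteCategory.bijective_of_isIso (X.presheaf.map (eqToHom O.1.ι_image_top).op)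
  have h2 := congrArg (Ideal.comap (O.1.ι.appLE O.1 ⊤ e).hom) h1
  rw [Ideal.comap_map_of_bijective _ hbij, Ideal.comap_map_of_bijective _ hbij] at h2
  exact h2.symm

theorem comap_eq_top_of_disjoint {X Y : Scheme.{u}} (I : Y.IdealSheafData) (f : X ⟶ Y)
    (h : ∀ x, f x ∉ I.support) : I.comap f = ⊤ := by
  rw [← Scheme.IdealSheafData.support_eq_bot_iff, Scheme.IdealSheafData.support_comap]
  exact SetLike.ext fun w => iff_of_false (h w) (fun hw => hw)

theorem mem_support_prod {X : Scheme.{u}} {κ : Type*} (s : Finset κ) (A : κ → X.IdealSheafData) (x : X) :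
    x ∈ (∏ i ∈ s, A i).support ↔ ∃ i ∈ s, x ∈ (A i).support := by
  classical
  induction s using Finset.induction_on with
  | empty =>
    simp only [Finset.prod_empty, Scheme.IdealSheafData.one_eq_top, Scheme.IdealSheafData.support_top,
      Finset.notMem_empty, false_and, exists_false, iff_false]
    exact fun h => h
  | insert a s ha ih =>
    rw [Finset.prod_insert ha, Scheme.IdealSheafData.support_mul, Finset.exists_mem_insert, ← ih]
    rfl

theorem comap_prod {X Y : Scheme.{u}} (f : X ⟶ Y) {κ : Type*} (s : Finset κ) (A : κ → Y.IdealSheafData) :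
    (∏ i ∈ s, A i).comap f = ∏ i ∈ s, (A i).comap f := by
  classical
  induction s using Finset.induction_on with
  | empty => simp only [Finset.prod_empty, Scheme.IdealSheafData.one_eq_top, Scheme.IdealSheafData.comap_top]
  | insert a s ha ih => rw [Finset.prod_insert ha, Finset.prod_insert ha, BlowUpLib.comap_mul, ih]

/-- With pieces already separated and the immersion dominant, one blow-up in Fitting ideals frees the extensions. -/
theorem exists_free_extend {X Y : Scheme.{u}} [IsNoetherian Y] (j : X ⟶ Y) [IsOpenImmersion j] [QuasiCompact j]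
    [IsSchemeTheoreticallyDominant j] {ι : Type v} [Finite ι] (E : ι → X.Modules)
    (hE : ∀ i, FlatMod.IsFinLocFree (E i))
    (hsep : ∀ i r, Disjoint (closure (j '' rankSet (E i) r)) (closure (j '' (rankSet (E i) r)ᶜ))) :
    ∃ (Y' : Scheme.{u}) (b : Y' ⟶ Y) (I : Y.IdealSheafData) (u : X ⟶ Y'), BlowUp.IsBlowUp b I ∧ IsNoetherian Y' ∧
      IsOpenImmersion u ∧ u ≫ b = j ∧
      ∀ i, ∃ G : Y'.Modules, FlatMod.IsFinLocFree G ∧ Nonempty ((Scheme.Modules.pullback u).obj G ≅ E i) := by
  classical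
  haveI := Fintype.ofFinite ι
  haveI : IsLocallyNoetherian X := LocallyOfFiniteType.isLocallyNoetherian j
  haveI : CompactSpace X := QuasiCompact.compactSpace_of_compactSpace j
  choose R hR using fun i => exists_finset_rankSet (hE i)
  have hcE : ∀ i, Coh.IsCoh (E i) := fun i => LocSuppLib.isCoh_of_isFinLocFree (hE i)
  choose F hF eF using fun i => exists_coh_extend j (E i) (hcE i)
  haveI : ∀ i, Coh.IsQCoh (F i) := fun i => (hF i).1
  haveI : ∀ i, Coh.IsQCoh (E i) := fun i => (hcE i).1
  have hdense : closure (Set.range j) = Set.univ := by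
    haveI : IsDominant j := inferInstance
    exact j.denseRange.closure_eq
  -- the clopen pieces
  have hcompl : ∀ i r, (closure (j '' (rankSet (E i) r)ᶜ))ᶜ = closure (j '' rankSet (E i) r) := fun i r => by
    refine Set.eq_of_subset_of_subset (fun y hy => ?_) fun y hy hy' => Set.disjoint_left.mp (hsep i r) hy hy'
    have : y ∈ closure (j '' rankSet (E i) r) ∪ closure (j '' (rankSet (E i) r)ᶜ) := by
      rw [← closure_union, ← Set.image_union, Set.union_compl_self, Set.image_univ, hdense]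
      trivial
    exact this.resolve_right hy
  let W : ∀ _ : ι, ℕ → Y.Opens := fun i r => ⟨(closure (j '' (rankSet (E i) r)ᶜ))ᶜ, isClosed_closure.isOpen_compl⟩
  have hW : ∀ i r, (W i r : Set Y) = closure (j '' rankSet (E i) r) := hcompl
  have hjW : ∀ i r (x : X), j x ∈ W i r → x ∈ rankSet (E i) r := fun i r x hx => by
    by_contra h
    exact hx (subset_closure ⟨x, h, rfl⟩)
  have hcover : ∀ i y, ∃ r ∈ R i, y ∈ W i r := fun i y => by
    have hy : y ∈ closure (⋃ r ∈ R i, j '' rankSet (E i) r) := by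
      rw [show (⋃ r ∈ R i, j '' rankSet (E i) r) = Set.range j from ?_, hdense]
      · trivial
      refine Set.eq_of_subset_of_subset (Set.iUnion₂_subset fun r _ => Set.image_subset_range _ _) ?_
      rintro _ ⟨x, rfl⟩
      obtain ⟨r, hr, hx⟩ := hR i x
      exact Set.mem_biUnion hr ⟨x, hx, rfl⟩
    rw [(R i).closure_biUnion] at hy
    obtain ⟨r, hr, hy⟩ := Set.mem_iUnion₂.mp hy
    exact ⟨r, hr, show y ∈ (W i r : Set Y) from (hW i r).symm ▸ hy⟩
  have hWdisj : ∀ i r r' y, y ∈ W i r → y ∈ W i r' → r = r' := fun i r r' y h h' => by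
    by_contra hne
    have h1 : y ∈ (W i r : Set Y) := h
    rw [hW] at h1
    exact h' (closure_mono (Set.image_mono fun x hx hx' => hne (rankSet_unique _ hx hx')) h1)
  -- the lower Fitting ideals vanish on the pieces
  have hbotW : ∀ i r k, k < r → (Fitt.sheafIdeal (F i) k).comap (W i r).ι = ⊥ := fun i r k hk => by
    obtain ⟨e⟩ := eF i
    haveI : Coh.IsQCoh ((Scheme.Modules.pullback j).obj (F i)) := KFlatLib.isQCoh_pullback j _
    have hj : (Fitt.sheafIdeal (F i) k).comap j = Fitt.sheafIdeal (E i) k := by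
      rw [FittLib.sheafIdeal_comap j (F i) (hF i).2 k,
        FittLib.sheafIdeal_congr e (ConsLib.isFT_pullback j _ (hF i).2) (hcE i).2 k]
    refine Scheme.IdealSheafData.ext (funext fun O' => ?_)
    let O : Y.affineOpens := ⟨(W i r).ι ''ᵁ O'.1, O'.2.image_of_isOpenImmersion _⟩
    have e' : O'.1 ≤ (W i r).ι ⁻¹ᵁ O.1 := le_of_eq ((W i r).ι.preimage_image_eq O'.1).symm
    rw [Groth.Agent.S4666.ideal_comap_eq _ (W i r).ι O O' e']
    have hO : (Fitt.sheafIdeal (F i) k).ideal O = ⊥ := by
      refine eq_bot_iff.mpr fun a ha => Ideal.mem_bot.mpr (j.app_injective O.1 ?_)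
      refine Eq.trans ?_ (map_zero _).symm
      refine TopCat.Presheaf.section_ext X.sheaf _ _ 0 fun x hx => ?_
      show X.presheaf.germ _ x hx _ = X.presheaf.germ _ x hx 0
      obtain ⟨V, hV, hxV, hVO⟩ := Opens.isBasis_iff_nbhd.mp X.isBasis_affineOpens hx
      have h0 : (j.appLE O.1 V hVO).hom a = 0 := by
        refine Ideal.mem_bot.mp ?_
        rw [← fitt_ideal_eq_bot (hE i) (O := ⟨V, hV⟩)
          (fun y hy => hjW i r y ((W i r).ι_image_le _ (hVO hy))) hk, ← hj,
          Groth.Agent.S4666.ideal_comap_eq _ j O ⟨V, hV⟩ hVO]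
        exact Ideal.mem_map_of_mem _ ha
      rw [map_zero, ← TopCat.Presheaf.germ_res_apply X.presheaf (homOfLE hVO) x hxV]
      exact (congrArg _ h0).trans (map_zero _)
    rw [hO, Ideal.map_bot]
    rfl
  -- the centre
  let A : ∀ _ : ι, ℕ → Y.IdealSheafData := fun i r => Fitt.sheafIdeal (F i) r ⊔ (W i r).ι.ker
  have hclW : ∀ i r, IsClosedImmersion (W i r).ι := fun i r => IsClosedImmersion.of_isPreimmersion _ (by
    rw [Scheme.Opens.range_ι, hW]
    exact isClosed_closure)
  have hAW : ∀ i r, (A i r).comap (W i r).ι = (Fitt.sheafIdeal (F i) r).comap (W i r).ι := fun i r => by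
    rw [Scheme.IdealSheafData.comap_sup, show (W i r).ι.ker.comap (W i r).ι = ⊥ from
      le_bot_iff.mp (Scheme.IdealSheafData.le_map_iff_comap_le.mp (Scheme.IdealSheafData.map_bot _).ge), sup_bot_eq]
  have hAsupp : ∀ i r y, y ∈ (A i r).support → y ∈ W i r ∧ y ∈ (Fitt.sheafIdeal (F i) r).support := by
    intro i r y hy
    haveI := hclW i r
    rw [Scheme.IdealSheafData.support_sup] at hy
    refine ⟨?_, hy.1⟩
    have h2 := hy.2
    rw [Scheme.Hom.support_ker, Scheme.Opens.range_ι, hW, closure_closure, ← hW] at h2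
    exact h2
  let J : ι → Y.IdealSheafData := fun i => ∏ r ∈ R i, A i r
  let I : Y.IdealSheafData := ∏ i, J i
  obtain ⟨Y', b, hb⟩ := BlowUpLib.exists_isBlowUp Y I
  haveI : IsNoetherian Y' := Groth.Agent.LocImmLib.isNoetherian_of_isBlowUp hb
  have hd : ∀ i (x : X), j x ∉ (J i).support := fun i x hx => by
    obtain ⟨r, -, hr⟩ := (mem_support_prod _ _ _).mp hx
    obtain ⟨hxW, hxF⟩ := hAsupp i r _ hr
    obtain ⟨e⟩ := eF i
    haveI : Coh.IsQCoh ((Scheme.Modules.pullback j).obj (F i)) := KFlatLib.isQCoh_pullback j _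
    refine (hjW i r x hxW).1 ?_
    rw [← FittLib.sheafIdeal_congr e (ConsLib.isFT_pullback j _ (hF i).2) (hcE i).2 r,
      ← FittLib.sheafIdeal_comap j (F i) (hF i).2 r, Scheme.IdealSheafData.support_comap]
    exact hxF
  obtain ⟨u, hu, hub, -⟩ := exists_lift_openImmersion j hb (Set.disjoint_left.mpr fun y hy ⟨x, hxy⟩ => by
    obtain ⟨i, -, hi⟩ := (mem_support_prod _ _ _).mp hy
    exact hd i x (hxy ▸ hi))
  have hcart : ∀ i, BlowUp.IsEffCartierIdeal ((J i).comap b) := fun i => by
    have h := hb.1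
    rw [show I = (∏ i' ∈ (Finset.univ.erase i), J i') * J i from
      (Finset.prod_erase_mul _ _ (Finset.mem_univ i)).symm, BlowUpLib.comap_mul] at h
    exact BlowUpLib.isEffCartier_of_mul h
  refine ⟨Y', b, I, u, hb, inferInstance, hu, hub, fun i => ?_⟩
  let P := (Scheme.Modules.pullback b).obj (F i)
  haveI : Coh.IsQCoh P := KFlatLib.isQCoh_pullback b _
  have hPft := ConsLib.isFT_pullback b (F i) (hF i).2
  let Ω : Y'.Opens := ((J i).comap b).support.compl
  let η : P ⟶ (Scheme.Modules.pushforward Ω.ι).obj ((Scheme.Modules.restrictFunctor Ω.ι).obj P) :=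
    (Scheme.Modules.restrictAdjunction Ω.ι).unit.app P
  let π : P ⟶ Abelian.image η := Abelian.factorThruImage η
  have hπη : π ≫ Abelian.image.ι η = η := Abelian.image.fac η
  have hiff : ∀ (V : Y'.affineOpens) (m : P.presheaf.obj (op V.1)),
      π.app V.1 m = 0 ↔ BlowUp.KilledByPowerNear ((J i).comap b) P V m := fun V m => by
    have hk : BlowUp.KilledByPowerNear ((J i).comap b) P V m ↔ η.app V.1 m = 0 :=
      killed_iff_res_eq_zero _ P V m _ (Ω.ι.image_preimage_le V.1) fun x => by
        constructor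
        · rintro ⟨y, hy, rfl⟩
          exact ⟨hy, y.2⟩
        · rintro ⟨hx, hxE⟩
          exact ⟨⟨x, hxE⟩, hx, rfl⟩
    rw [hk]
    have e : η.app V.1 m = (Abelian.image.ι η).app V.1 (π.app V.1 m) :=
      (congrArg (fun θ : P ⟶ (Scheme.Modules.pushforward Ω.ι).obj ((Scheme.Modules.restrictFunctor Ω.ι).obj P) =>
        θ.app V.1 m) hπη).symm
    rw [e]
    exact ⟨fun h => by rw [h, map_zero],
      fun h => QCohLib.app_injective_of_mono (Abelian.image.ι η) V.1 (h.trans (map_zero _).symm)⟩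
  refine ⟨Abelian.image η, fun y => ?_, ?_⟩
  · -- free near `y`
    obtain ⟨r, hr, hyW⟩ := hcover i (b y)
    obtain ⟨V₀, hyV₀, f₀, hf₀, hV₀⟩ := hcart i y
    obtain ⟨s, hsle, hys⟩ := V₀.2.exists_basicOpen_le (V := b ⁻¹ᵁ W i r) ⟨y, hyW⟩ hyV₀
    obtain ⟨f, hf, hfV⟩ := RGFlatLib.generator_basicOpen V₀.2 hf₀ hV₀ s
    let V : Y'.affineOpens := ⟨Y'.basicOpen s, V₀.2.basicOpen s⟩
    have hcomapW : ∀ (O : Y'.Opens) (_ : O ≤ b ⁻¹ᵁ W i r) (K K' : Y.IdealSheafData),
        K.comap (W i r).ι = K'.comap (W i r).ι → (K.comap b).comap O.ι = (K'.comap b).comap O.ι := by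
      intro O hO K K' h
      have hrange : Set.range (O.ι ≫ b) ⊆ Set.range (W i r).ι := by
        rw [Scheme.Opens.range_ι]
        rintro _ ⟨z, rfl⟩
        exact hO z.2
      rw [← Scheme.IdealSheafData.comap_comp, ← Scheme.IdealSheafData.comap_comp,
        ← IsOpenImmersion.lift_fac (W i r).ι (O.ι ≫ b) hrange, Scheme.IdealSheafData.comap_comp,
        Scheme.IdealSheafData.comap_comp, h]
    have hJW : (J i).comap (W i r).ι = (Fitt.sheafIdeal (F i) r).comap (W i r).ι := by
      rw [comap_prod, Finset.prod_eq_single r, hAW]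
      · intro r' _ hne
        rw [comap_eq_top_of_disjoint, Scheme.IdealSheafData.one_eq_top]
        exact fun w hw => hne (hWdisj i r' r _ (hAsupp i r' _ hw).1 w.2)
      · exact fun h => absurd hr h
    obtain ⟨U, hyU, ⟨eU⟩⟩ := exists_free_nhd_strict hPft π ((J i).comap b) r V hys f hf hfV (by
      rw [← FittLib.sheafIdeal_ideal _ hPft r V, ← FittLib.sheafIdeal_comap b (F i) (hF i).2 r,
        ← ideal_eq_of_comap ((J i).comap b) _ V (hcomapW V.1 hsle _ _ hJW)]
      exact hfV) hiff (fun O hO hOV _ k hk => by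
      rw [← FittLib.sheafIdeal_ideal _ hPft k ⟨O, hO⟩, ← FittLib.sheafIdeal_comap b (F i) (hF i).2 k]
      refine ideal_eq_bot_of_comap _ ⟨O, hO⟩ ?_
      rw [hcomapW O (hOV.trans hsle) _ ⊥ (by rw [hbotW i r k hk, Scheme.IdealSheafData.comap_bot]),
        Scheme.IdealSheafData.comap_bot, Scheme.IdealSheafData.comap_bot])
    exact ⟨U, r, hyU, ⟨eU⟩⟩
  · -- agrees with `E i`
    haveI : IsIso ((Scheme.Modules.restrictFunctor Ω.ι).map η) := by
      have h := (Scheme.Modules.restrictAdjunction Ω.ι).left_triangle_components P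
      haveI : IsIso ((Scheme.Modules.restrictFunctor Ω.ι).map η ≫ (Scheme.Modules.restrictAdjunction Ω.ι).counit.app
          ((Scheme.Modules.restrictFunctor Ω.ι).obj P)) := by
        rw [h]; infer_instance
      exact IsIso.of_isIso_comp_right _ ((Scheme.Modules.restrictAdjunction Ω.ι).counit.app
        ((Scheme.Modules.restrictFunctor Ω.ι).obj P))
    haveI : Mono ((Scheme.Modules.restrictFunctor Ω.ι).map π) := by
      haveI : Mono ((Scheme.Modules.restrictFunctor Ω.ι).map π ≫
          (Scheme.Modules.restrictFunctor Ω.ι).map (Abelian.image.ι η)) := by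
        rw [← Functor.map_comp, hπη]; infer_instance
      exact mono_of_mono _ ((Scheme.Modules.restrictFunctor Ω.ι).map (Abelian.image.ι η))
    haveI : IsIso ((Scheme.Modules.restrictFunctor Ω.ι).map π) := isIso_of_mono_of_epi _
    have hrange : Set.range u ⊆ Set.range Ω.ι := by
      rw [Scheme.Opens.range_ι]
      rintro _ ⟨x, rfl⟩ hx
      rw [Scheme.IdealSheafData.support_comap] at hx
      refine hd i x ?_
      have : b (u x) = j x := by rw [← Scheme.Hom.comp_apply, hub]
      exact this ▸ hx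
    let l := IsOpenImmersion.lift Ω.ι u hrange
    haveI : IsIso ((Scheme.Modules.pullback Ω.ι).map π) :=
      (NatIso.isIso_map_iff (Scheme.Modules.restrictFunctorIsoPullback Ω.ι) π).mp inferInstance
    obtain ⟨e⟩ := eF i
    exact ⟨(Scheme.Modules.pullbackCongr (IsOpenImmersion.lift_fac Ω.ι u hrange).symm).app _ ≪≫
      ((Scheme.Modules.pullbackComp l Ω.ι).app _).symm ≪≫
      (Scheme.Modules.pullback l).mapIso (asIso ((Scheme.Modules.pullback Ω.ι).map π)).symm ≪≫
      (Scheme.Modules.pullbackComp l Ω.ι).app P ≪≫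
      (Scheme.Modules.pullbackCongr (IsOpenImmersion.lift_fac Ω.ι u hrange)).app P ≪≫
      (Scheme.Modules.pullbackComp u b).app (F i) ≪≫ (Scheme.Modules.pullbackCongr hub).app (F i) ≪≫ e⟩

end StrictModLib

namespace StrictModLib

theorem isNoetherian_of_openImmersion {X Y : Scheme.{u}} [IsNoetherian Y] (j : X ⟶ Y) [IsOpenImmersion j] :
    IsNoetherian X := by
  haveI : IsLocallyNoetherian X := LocallyOfFiniteType.isLocallyNoetherian j
  haveI : NoetherianSpace X := j.isOpenEmbedding.isInducing.noetherianSpace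
  exact { }

/-- Finite locally free modules on an open extend after modifying the ambient noetherian scheme. -/
theorem exists_extend_finLocFree (Q : MorphismProperty Scheme.{u}) [Q.IsMultiplicative]
    (hblow : ∀ ⦃A B : Scheme.{u}⦄ [IsNoetherian B] (b : A ⟶ B) (I : B.IdealSheafData), BlowUp.IsBlowUp b I → Q b)
    (hclosed : ∀ ⦃A B : Scheme.{u}⦄ [IsNoetherian B] (i : A ⟶ B), IsClosedImmersion i → Q i)
    {X Y : Scheme.{u}} [IsNoetherian Y] (j : X ⟶ Y) [IsOpenImmersion j] {ι : Type v} [Finite ι] (E : ι → X.Modules)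
    (hE : ∀ i, FlatMod.IsFinLocFree (E i)) :
    ∃ (Y' : Scheme.{u}) (h : Y' ⟶ Y) (j' : X ⟶ Y'), Q h ∧ IsOpenImmersion j' ∧ QuasiCompact j' ∧
      IsSchemeTheoreticallyDominant j' ∧ j' ≫ h = j ∧
      ∀ i, ∃ E' : Y'.Modules, FlatMod.IsFinLocFree E' ∧ Nonempty ((Scheme.Modules.pullback j').obj E' ≅ E i) := by
  classical
  haveI := Fintype.ofFinite ι
  haveI := isNoetherian_of_openImmersion j
  choose R hR using fun i => exists_finset_rankSet (hE i)
  let Ts : List (Set X) := (Finset.univ.biUnion fun i => (R i).image (rankSet (E i))).toList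
  obtain ⟨Y₁, h₁, j₁, _, hQ₁, _, hj₁, hd⟩ := exists_disjoint_closures Q hblow Ts (fun T hT => by
    obtain ⟨i, -, hi⟩ := Finset.mem_biUnion.mp (Finset.mem_toList.mp hT)
    obtain ⟨r, -, rfl⟩ := Finset.mem_image.mp hi
    exact ⟨isClosed_rankSet (hE i) r, isOpen_rankSet (hE i) r⟩) j
  -- the scheme-theoretic image
  haveI : QuasiCompact j₁ := inferInstance
  haveI : IsSchemeTheoreticallyDominant j₁.toImage := ModPairLib.isDominant_toImage
  haveI : IsNoetherian j₁.image := by
    haveI : IsLocallyNoetherian j₁.image := LocallyOfFiniteType.isLocallyNoetherian j₁.imageι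
    haveI : CompactSpace j₁.image := QuasiCompact.compactSpace_of_compactSpace j₁.imageι
    exact { }
  have hsep : ∀ i r, Disjoint (closure (j₁.toImage '' rankSet (E i) r))
      (closure (j₁.toImage '' (rankSet (E i) r)ᶜ)) := fun i r => by
    by_cases hr : r ∈ R i
    · have hsub : ∀ T : Set X, closure (j₁.toImage '' T) ⊆ j₁.imageι ⁻¹' closure (j₁ '' T) := fun T => by
        refine closure_minimal ?_ (isClosed_closure.preimage j₁.imageι.continuous)
        rintro _ ⟨x, hx, rfl⟩
        exact subset_closure ⟨x, hx, by rw [← Scheme.Hom.comp_apply, Scheme.Hom.toImage_imageι]⟩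
      exact Disjoint.mono (hsub _) (hsub _) ((hd _ (Finset.mem_toList.mpr (Finset.mem_biUnion.mpr
        ⟨i, Finset.mem_univ _, Finset.mem_image_of_mem _ hr⟩))).preimage _)
    · have : rankSet (E i) r = ∅ := Set.eq_empty_iff_forall_notMem.mpr fun x hx => by
        obtain ⟨r', hr', hx'⟩ := hR i x
        exact hr (rankSet_unique _ hx hx' ▸ hr')
      simp [this]
  obtain ⟨Y₃, b, I, u, hb, _, _, hub, hG⟩ := exists_free_extend j₁.toImage E hE hsep
  haveI : QuasiCompact u := inferInstance
  haveI : IsSchemeTheoreticallyDominant u.toImage := ModPairLib.isDominant_toImage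
  refine ⟨u.image, u.imageι ≫ b ≫ j₁.imageι ≫ h₁, u.toImage,
    Q.comp_mem _ _ (hclosed _ inferInstance) (Q.comp_mem _ _ (hblow b I hb)
      (Q.comp_mem _ _ (hclosed _ inferInstance) hQ₁)), inferInstance, inferInstance, inferInstance, ?_, fun i => ?_⟩
  · rw [Scheme.Hom.toImage_imageι_assoc, ← Category.assoc u b, hub, Scheme.Hom.toImage_imageι_assoc, hj₁]
  · obtain ⟨G, hG, ⟨e⟩⟩ := hG i
    exact ⟨(Scheme.Modules.pullback u.imageι).obj G, KFlatLib.isFinLocFree_pull u.imageι hG,
      ⟨(Scheme.Modules.pullbackComp u.toImage u.imageι).app G ≪≫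
        (Scheme.Modules.pullbackCongr u.toImage_imageι).app G ≪≫ e⟩⟩

end StrictModLib
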