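import Groth.Agent.KFlatLib.StalkPull
import Groth.Agent.FlatLib.QStalk
import Groth.Agent.BlowUpLib.Cartier
import Groth.Prelude.Def_BlowUp2
import Groth.Prelude.Def_FlatMod2

/-! Sections killed by a Cartier ideal on a flat module. -/

set_option autoImplicit false
universe u

open CategoryTheory CategoryTheory.Limits AlgebraicGeometry TopologicalSpace Opposite

namespace StrictModLib

variable {X Y : Scheme.{u}}

/-- Stalkwise flatness of a module passes to pullbacks. -/
theorem isFlatAt_pullback (b : X ⟶ Y) (F : Y.Modules) (x : X) (h : FlatMod.IsFlatAt F (b x)) :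
    FlatMod.IsFlatAt ((Scheme.Modules.pullback b).obj F) x := by
  letI := (b.stalkMap x).hom.toAlgebra
  haveI : Module.Flat (Y.presheaf.stalk (b x)) ((DerSch.stalkFunctor Y (b x)).obj F) := h
  have e := ((KFlatLib.stalkPullIso b x).app F).toLinearEquiv
  have key : Module.Flat (X.presheaf.stalk x)
      ((ModuleCat.extendScalars.{u, u, u} (b.stalkMap x).hom).obj ((DerSch.stalkFunctor Y (b x)).obj F)) :=
    Module.Flat.baseChange (R := Y.presheaf.stalk (b x)) (S := X.presheaf.stalk x)
      (M := (DerSch.stalkFunctor Y (b x)).obj F)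
  haveI := key
  exact Module.Flat.of_linearEquiv
    (M := (ModuleCat.extendScalars.{u, u, u} (b.stalkMap x).hom).obj ((DerSch.stalkFunctor Y (b x)).obj F)) e

/-- A germ of a nonzerodivisor on an affine open is a nonzerodivisor. -/
theorem germ_mem_nonZeroDivisors {U : X.Opens} (hU : IsAffineOpen U) {x : X} (hx : x ∈ U) {t : Γ(X, U)}
    (ht : t ∈ nonZeroDivisors Γ(X, U)) :
    X.presheaf.germ U x hx t ∈ nonZeroDivisors (X.presheaf.stalk x) := by
  refine BlowUpLib.nzd_of_flat (X.presheaf.germ U x hx).hom ?_ ht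
  letI : Algebra Γ(X, U) (X.presheaf.stalk x) := (X.presheaf.germ U x hx).hom.toAlgebra
  haveI : IsLocalization.AtPrime (X.presheaf.stalk x) (hU.primeIdealOf ⟨x, hx⟩).asIdeal :=
    hU.isLocalization_stalk ⟨x, hx⟩
  exact RingHom.flat_algebraMap_iff.mpr (IsLocalization.flat _ (hU.primeIdealOf ⟨x, hx⟩).asIdeal.primeCompl)

/-- A section killed by a power of an effective Cartier ideal vanishes, where the module is flat along it. -/
theorem eq_zero_of_killed {E : X.IdealSheafData} (hE : BlowUp.IsEffCartierIdeal E) (M : X.Modules)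
    (hM : ∀ x : X, x ∈ E.support → FlatMod.IsFlatAt M x) (V : X.affineOpens)
    (m : M.presheaf.obj (op V.1)) (h : BlowUp.KilledByPowerNear E M V m) : m = 0 := by
  obtain ⟨n, hn⟩ := h
  refine TopCat.Presheaf.section_ext ((QCohLib.toAbF X).obj M : TopCat.Sheaf AddCommGrpCat _) V.1 m 0 fun x hx => ?_
  show M.presheaf.germ V.1 x hx m = M.presheaf.germ V.1 x hx 0
  rw [map_zero]
  let A : Ideal (X.presheaf.stalk x) :=
    { carrier := {a | a • M.presheaf.germ V.1 x hx m = 0}
      add_mem' := fun {a b} ha hb => by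
        show (a + b) • _ = 0
        rw [add_smul, ha, hb, add_zero]
      zero_mem' := zero_smul _ _
      smul_mem' := fun c a ha => by
        show (c * a) • _ = 0
        rw [mul_smul, ha, smul_zero] }
  have hA : ((E ^ n).ideal V).map (X.presheaf.germ V.1 x hx).hom ≤ A := by
    refine Ideal.map_le_iff_le_comap.mpr fun a ha => ?_
    show X.presheaf.germ V.1 x hx a • M.presheaf.germ V.1 x hx m = 0
    rw [← FlatLib.germ_smul_mod, hn a ha, map_zero]
  by_cases hxE : x ∈ E.support
  · obtain ⟨U, hxU, t, ht, hUt⟩ := hE x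
    obtain ⟨r, hrU, hxr⟩ := V.2.exists_basicOpen_le (V := U.1) ⟨x, hxU⟩ hx
    let W := X.affineBasicOpen (U := V) r
    have h1 : ((E ^ n).ideal V).map (X.presheaf.map (homOfLE (X.basicOpen_le r)).op).hom = (E ^ n).ideal W :=
      (E ^ n).map_ideal_basicOpen V r
    have h2 : ((E ^ n).ideal U).map (X.presheaf.map (homOfLE hrU).op).hom = (E ^ n).ideal W :=
      (E ^ n).map_ideal (U := W) (V := U) hrU
    have key : X.presheaf.germ U.1 x hxU (t ^ n) ∈ ((E ^ n).ideal V).map (X.presheaf.germ V.1 x hx).hom := by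
      have h3 : (X.presheaf.map (homOfLE hrU).op).hom (t ^ n) ∈ (E ^ n).ideal W := by
        rw [← h2]
        refine Ideal.mem_map_of_mem _ ?_
        rw [Scheme.IdealSheafData.ideal_pow, Pi.pow_apply, hUt, Ideal.span_singleton_pow]
        exact Ideal.mem_span_singleton_self _
      rw [← h1] at h3
      have h4 := Ideal.mem_map_of_mem (X.presheaf.germ W.1 x hxr).hom h3
      erw [Ideal.map_map, ← CommRingCat.hom_comp, TopCat.Presheaf.germ_res] at h4
      convert h4 using 1
      exact (TopCat.Presheaf.germ_res_apply X.presheaf _ _ _ _).symm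
    have h5 := hA key
    change X.presheaf.germ U.1 x hxU (t ^ n) • M.presheaf.germ V.1 x hx m = 0 at h5
    haveI : Module.Flat (X.presheaf.stalk x) (M.presheaf.stalk x) := hM x hxE
    exact Module.Flat.isSMulRegular_of_nonZeroDivisors
      (germ_mem_nonZeroDivisors U.2 hxU (pow_mem ht n)) (h5.trans (smul_zero _).symm)
  · rw [Scheme.IdealSheafData.mem_support_iff_of_mem (U := V) hx, Scheme.mem_zeroLocus_iff] at hxE
    push Not at hxE
    obtain ⟨a, ha, hxa⟩ := hxE
    rw [Scheme.mem_basicOpen _ _ x hx] at hxa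
    have h5 := hA (Ideal.mem_map_of_mem _ (show a ^ n ∈ (E ^ n).ideal V by
      rw [Scheme.IdealSheafData.ideal_pow, Pi.pow_apply]; exact Ideal.pow_mem_pow ha n))
    change X.presheaf.germ V.1 x hx (a ^ n) • M.presheaf.germ V.1 x hx m = 0 at h5
    rw [map_pow] at h5
    exact (hxa.pow n).smul_left_cancel.mp (h5.trans (smul_zero _).symm)

end StrictModLib
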