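import Groth.Agent.StrictModLib.Basic
import Groth.Agent.FittLib.LocFree
import Groth.Agent.FittLib.Generated
import Groth.Agent.QCohLib.AffineFinite

/-! Strict transforms along a principal Fitting ideal are generated by few sections. -/

set_option autoImplicit false
universe u

open CategoryTheory CategoryTheory.Limits AlgebraicGeometry TopologicalSpace Opposite

namespace StrictModLib

/-- The algebra: near a prime, generators of a module are combinations of `k` elements up to `f`-torsion. -/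
theorem exists_gen_mod_torsion {A : Type u} [CommRing A] {M : Type u} [AddCommGroup M] [Module A M]
    [Module.Finite A M] (k : ℕ) (f : A) (hf : Fitt.ideal A M k = Ideal.span {f}) (p : Ideal A) [p.IsPrime]
    {n : ℕ} (x : Fin n → M) :
    ∃ (t : A) (g : Fin k → M) (a : Fin n → Fin k → A), t ∉ p ∧
      ∀ j, f • (t • x j - ∑ i, a j i • g i) = 0 := by
  classical
  let S := p.primeCompl
  let R' := Localization S
  let M' := LocalizedModule S M
  let φ := LocalizedModule.mkLinearMap S M
  haveI : IsLocalRing R' := inferInstanceAs (IsLocalRing (Localization.AtPrime p))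
  obtain ⟨g', hg'⟩ := FittLib.exists_gen_of_principal (R := R') (M := M') k (algebraMap A R' f)
    (by rw [FittLib.ideal_localized, hf, Ideal.map_span, Set.image_singleton])
  choose G hG using fun i => Submodule.mkQ_surjective _ (g' i)
  choose s hs using fun i => IsLocalizedModule.surj S φ (G i)
  have hmem : ∀ m : M', ∃ c : Fin k → R', algebraMap A R' f • (m - ∑ i, c i • φ (s i).1) = 0 := fun m => by
    obtain ⟨c, hc⟩ := (Submodule.mem_span_range_iff_exists_fun R').mp
      (hg'.ge (Submodule.mem_top (x := Submodule.mkQ _ m)))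
    refine ⟨fun i => c i * IsLocalization.mk' R' 1 (s i).2, ?_⟩
    have e1 : ∀ i, (c i * IsLocalization.mk' R' 1 (s i).2) • φ (s i).1 = c i • G i := fun i => by
      rw [← hs i, Submonoid.smul_def, ← IsScalarTower.algebraMap_smul R' ((s i).2 : A) (G i), ← mul_smul,
        mul_assoc, IsLocalization.mk'_spec, map_one, mul_one]
    simp_rw [e1]
    have h0 := (Submodule.Quotient.eq _).mp (hc.symm.trans (show ∑ i, c i • g' i =
      Submodule.mkQ _ (∑ i, c i • G i) by rw [map_sum]; exact Finset.sum_congr rfl fun i _ => by rw [map_smul, hG]))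
    exact h0
  choose c hc using fun j => hmem (φ (x j))
  obtain ⟨b, hb⟩ := IsLocalization.exist_integer_multiples S (Finset.univ : Finset (Fin n × Fin k))
    (fun q => c q.1 q.2)
  choose a ha using fun (j : Fin n) (i : Fin k) => hb (j, i) (Finset.mem_univ _)
  have key : ∀ j, ∃ w : S, (w : A) • (f • ((b : A) • x j - ∑ i, a j i • (s i).1)) = 0 := fun j => by
    have e : φ (f • ((b : A) • x j - ∑ i, a j i • (s i).1)) = φ 0 := by
      rw [map_zero, map_smul, map_sub, map_sum, ← IsScalarTower.algebraMap_smul R' f, map_smul]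
      have e2 : ∑ i, φ (a j i • (s i).1) = (b : A) • ∑ i, c j i • φ (s i).1 := by
        rw [Finset.smul_sum]
        refine Finset.sum_congr rfl fun i _ => ?_
        rw [map_smul, ← IsScalarTower.algebraMap_smul R' (a j i), ha j i, smul_assoc]
      rw [e2, ← smul_sub, smul_comm, hc j, smul_zero]
    obtain ⟨w, hw⟩ := IsLocalizedModule.exists_of_eq (S := S) (f := φ) e
    exact ⟨w, by simpa [Submonoid.smul_def] using hw⟩
  choose w hw using key
  let W : S := ∏ j, w j
  refine ⟨(W * b : S), fun i => (s i).1, fun j i => (W : A) * a j i, (W * b).2, fun j => ?_⟩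
  have hW : (W : A) = (w j : A) * ((∏ l ∈ Finset.univ.erase j, w l : S) : A) := by
    rw [← Submonoid.coe_mul, Finset.mul_prod_erase _ _ (Finset.mem_univ j)]
  rw [Submonoid.coe_mul, mul_smul]
  simp_rw [mul_smul (W : A)]
  rw [← Finset.smul_sum, ← smul_sub, smul_comm, hW, mul_smul, smul_comm (w j : A), hw j, smul_zero]

variable {X : Scheme.{u}}

/-- An epimorphism killing `E`-torsion, `Fit_k = E` principal: `k` sections near a point generate the target,
and generate the source off `E`. -/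
theorem exists_strict_gens {P G : X.Modules} [Coh.IsQCoh P] (hft : CohB1.IsFT P) (π : P ⟶ G) [Epi π]
    (E : X.IdealSheafData) (kill : ∀ (V : X.affineOpens) (m : P.presheaf.obj (op V.1)),
      BlowUp.KilledByPowerNear E P V m → π.app V.1 m = 0)
    (k : ℕ) (V : X.affineOpens) {x : X} (hx : x ∈ V.1) (f : Γ(X, V.1)) (hE : E.ideal V = Ideal.span {f})
    (hF : Fitt.ideal Γ(X, V.1) Γ(P, V.1) k = Ideal.span {f}) :
    ∃ (t : Γ(X, V.1)) (g : Fin k → Γ(P, V.1)), x ∈ X.basicOpen t ∧
      QCohLib.GenOn G (X.basicOpen t) (fun i : ULift.{u} (Fin k) =>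
        G.presheaf.map (homOfLE (X.basicOpen_le t)).op (π.app V.1 (g i.down))) ∧
      ∀ r : Γ(X, V.1), X.basicOpen r ≤ X.basicOpen t → X.basicOpen r ≤ X.basicOpen f →
        Submodule.span Γ(X, X.basicOpen r)
          (Set.range fun i => P.presheaf.map (homOfLE (X.basicOpen_le r)).op (g i)) = ⊤ := by
  haveI := QCohLib.finite_of_isFT hft V.2
  obtain ⟨n, y, hy⟩ := Module.Finite.exists_fin (R := Γ(X, V.1)) (M := Γ(P, V.1))
  obtain ⟨t, g, a, ht, hta⟩ := exists_gen_mod_torsion k f hF (V.2.primeIdealOf ⟨x, hx⟩).asIdeal y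
  have hxt : x ∈ X.basicOpen t := by
    letI : Algebra Γ(X, V.1) (X.presheaf.stalk x) := (X.presheaf.germ V.1 x hx).hom.toAlgebra
    have hloc := V.2.isLocalization_stalk ⟨x, hx⟩
    exact (X.mem_basicOpen t x hx).mpr
      ((IsLocalization.AtPrime.isUnit_to_map_iff (X.presheaf.stalk x) _ t).mpr ht)
  let ρ := G.presheaf.map (homOfLE (X.basicOpen_le t)).op
  refine ⟨t, g, hxt, fun V' hV' z p hp => ?_, fun r hrt hrf => ?_⟩
  swap
  · let := Module.compHom Γ(P, X.basicOpen r) (X.presheaf.map (homOfLE (X.basicOpen_le r)).op).hom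
    haveI := FlatnLib.isLocalizedModule_res P V.2 r (fun _ _ => rfl) (FittLib.resLin P r) (fun _ => rfl)
    let res : Γ(X, V.1) →+* Γ(X, X.basicOpen r) := (X.presheaf.map (homOfLE (X.basicOpen_le r)).op).hom
    let N := Submodule.span Γ(X, X.basicOpen r)
      (Set.range fun i => P.presheaf.map (homOfLE (X.basicOpen_le r)).op (g i))
    have hu : ∀ {a : Γ(X, V.1)}, X.basicOpen r ≤ X.basicOpen a → IsUnit (res a) := fun {a} ha => by
      obtain ⟨u, hu⟩ := (RingedSpace.isUnit_res_basicOpen X.toRingedSpace a).map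
        (X.presheaf.map (homOfLE ha).op).hom
      exact ⟨u, hu.trans (QCohLib.ringMap_map' _ _ _)⟩
    have hy' : ∀ j, P.presheaf.map (homOfLE (X.basicOpen_le r)).op (y j) ∈ N := fun j => by
      refine (N.smul_mem_iff_of_isUnit ((hu hrf).mul (hu hrt))).mp ?_
      have h1 := congrArg (P.presheaf.map (homOfLE (X.basicOpen_le r)).op) (hta j)
      rw [smul_sub, map_sub, map_zero, sub_eq_zero, ← mul_smul, QCohLib.map_smul', QCohLib.map_smul', map_mul,
        map_sum] at h1
      show (res f * res t) • _ ∈ N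
      rw [h1]
      refine N.smul_mem _ (sum_mem fun i _ => ?_)
      rw [QCohLib.map_smul']
      exact N.smul_mem _ (Submodule.subset_span ⟨i, rfl⟩)
    refine Submodule.eq_top_iff'.mpr fun z => ?_
    obtain ⟨⟨m, ⟨_, e, rfl⟩⟩, he⟩ := IsLocalizedModule.surj (Submonoid.powers r) (FittLib.resLin P r) z
    refine (N.smul_mem_iff_of_isUnit ((hu (le_refl _)).pow e)).mp ?_
    rw [← map_pow]
    refine (show res (r ^ e) • z = FittLib.resLin P r m from he) ▸ ?_
    obtain ⟨c, rfl⟩ := (Submodule.mem_span_range_iff_exists_fun Γ(X, V.1)).mp (hy.ge (Submodule.mem_top (x := m)))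
    rw [map_sum]
    refine sum_mem fun j _ => ?_
    rw [map_smul]
    exact N.smul_mem (res (c j)) (hy' j)
  obtain ⟨W₁, hW₁, hp₁, m, hm⟩ := QCohLib.exists_of_app_epi π V' z p hp
  have hgen : QCohLib.GenOn P V.1 (fun j : ULift.{u} (Fin n) => y j.down) :=
    QCohLib.genOn_of_span V.2 _ (by
      rw [← hy]; congr 1; ext z; exact ⟨fun ⟨j, h⟩ => ⟨j.down, h⟩, fun ⟨j, h⟩ => ⟨⟨j⟩, h⟩⟩)
  obtain ⟨W, hW, hWV, hpW, c, hc⟩ := hgen W₁ ((hW₁.trans hV').trans (X.basicOpen_le t)) m p hp₁
  have hWt : W ≤ X.basicOpen t := (hW.trans hW₁).trans hV'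
  refine ⟨W, hW.trans hW₁, hWt, hpW, ?_⟩
  obtain ⟨u, hu⟩ := RingedSpace.isUnit_res_basicOpen X.toRingedSpace t |>.map
    (X.presheaf.map (homOfLE hWt).op).hom
  let res : Γ(X, V.1) →+* Γ(X, W) := (X.presheaf.map (homOfLE hWV).op).hom
  have hu' : (u : Γ(X, W)) = res t := by
    rw [hu]
    exact QCohLib.ringMap_map' _ _ _
  have hk : ∀ j : Fin n, π.app V.1 (t • y j) = π.app V.1 (∑ i, a j i • g i) := fun j => by
    rw [← sub_eq_zero, ← map_sub]
    refine kill V _ ⟨1, fun r hr => ?_⟩
    rw [pow_one, hE] at hr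
    obtain ⟨r', rfl⟩ := Ideal.mem_span_singleton'.mp hr
    rw [mul_smul, hta j, smul_zero]
  refine ⟨fun i => ∑ j, c j * ((↑u⁻¹ : Γ(X, W)) * res (a j.down i.down)), ?_⟩
  have e1 := congrArg (π.app W) hc
  rw [QCohLib.app_map, hm, QCohLib.map_map', map_sum] at e1
  refine e1.trans ?_
  have e2 : ∀ j : Fin n, π.app W (P.presheaf.map (homOfLE hWV).op (y j)) =
      ∑ i : ULift.{u} (Fin k), ((↑u⁻¹ : Γ(X, W)) * res (a j i.down)) •
        G.presheaf.map (homOfLE hWV).op (π.app V.1 (g i.down)) := fun j => by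
    rw [QCohLib.app_map]
    have h1 := congrArg (G.presheaf.map (homOfLE hWV).op) (hk j)
    rw [map_sum, map_sum, QCohLib.app_smul, QCohLib.map_smul'] at h1
    change res t • _ = _ at h1
    rw [← hu'] at h1
    have h2 := congrArg (fun z => (↑u⁻¹ : Γ(X, W)) • z) h1
    simp only [← mul_smul, Units.inv_mul, one_smul, Finset.smul_sum] at h2
    rw [h2, ← Equiv.ulift.{u}.symm.sum_comp]
    refine Finset.sum_congr rfl fun i _ => ?_
    rw [QCohLib.app_smul, QCohLib.map_smul', ← mul_smul]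
    rfl
  have e3 : ∀ i : ULift.{u} (Fin k), G.presheaf.map (homOfLE hWt).op (ρ (π.app V.1 (g i.down))) =
      G.presheaf.map (homOfLE hWV).op (π.app V.1 (g i.down)) := fun i => QCohLib.map_map' G _ _ _
  simp only [QCohLib.app_smul, e2, Finset.smul_sum, ← mul_smul, Finset.sum_smul]
  rw [Finset.sum_comm]
  refine Finset.sum_congr rfl fun i _ => Finset.sum_congr rfl fun j _ => ?_
  exact congrArg _ (e3 i).symm

/-- Generating sections give an epimorphism from a free module. -/
theorem exists_epi_free {Z : Scheme.{u}} {M : Z.Modules} {k : ℕ} {s : ULift.{u} (Fin k) → Γ(M, ⊤)}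
    (h : QCohLib.GenTop s) : ∃ q : FlatMod.freeMod Z k ⟶ M, Epi q ∧
      ∀ i, Sigma.ι (fun _ : Fin k => Coh.structureModule Z) i ≫ q = QCohLib.unitHom M (s ⟨i⟩) := by
  refine ⟨Sigma.desc fun i => QCohLib.unitHom M (s ⟨i⟩),
    Preadditive.epi_of_cancel_zero _ fun {N} θ hθ => h.eq_zero θ fun i => ?_, fun i => Sigma.ι_desc _ _⟩
  have h1 : QCohLib.unitHom M (s i) ≫ θ = 0 := by
    rw [show QCohLib.unitHom M (s i) = Sigma.ι (fun _ : Fin k => Coh.structureModule Z) i.down ≫
      Sigma.desc (fun i => QCohLib.unitHom M (s ⟨i⟩)) from (Sigma.ι_desc (fun j => QCohLib.unitHom M (s ⟨j⟩)) i.down).symm,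
      Category.assoc, hθ, comp_zero]
  rw [QCohLib.app_unitHom_app] at h1
  have h2 := congrArg (fun φ : Coh.structureModule Z ⟶ N => φ.app ⊤ (1 : Γ(Z, ⊤))) h1
  change (QCohLib.unitHom N (θ.app ⊤ (s i))).app ⊤ (1 : Γ(Z, ⊤)) = 0 at h2
  rw [QCohLib.unitHom_app, one_smul] at h2
  exact (QCohLib.toSections_top N _).symm.trans h2

/-- An epimorphism killing `E`-torsion has target locally generated by `k` sections if `Fit_k = E` is principal. -/
theorem exists_genOn_strict {P G : X.Modules} [Coh.IsQCoh P] (hft : CohB1.IsFT P) (π : P ⟶ G) [Epi π]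
    (E : X.IdealSheafData) (kill : ∀ (V : X.affineOpens) (m : P.presheaf.obj (op V.1)),
      BlowUp.KilledByPowerNear E P V m → π.app V.1 m = 0)
    (k : ℕ) (V : X.affineOpens) {x : X} (hx : x ∈ V.1) (f : Γ(X, V.1)) (hE : E.ideal V = Ideal.span {f})
    (hF : Fitt.ideal Γ(X, V.1) Γ(P, V.1) k = Ideal.span {f}) :
    ∃ D : X.Opens, x ∈ D ∧ ∃ σ : ULift.{u} (Fin k) → Γ(G, D), QCohLib.GenOn G D σ := by
  obtain ⟨t, g, hxt, h, -⟩ := exists_strict_gens hft π E kill k V hx f hE hF
  exact ⟨_, hxt, _, h⟩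

end StrictModLib
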