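import Groth.Agent.StrictModLib.Fitting
import Groth.Agent.GrModLib6.Rel
import Groth.Agent.FittLib.Comap
import Groth.Agent.FittLib.OmegaFitt
import Groth.Agent.ConsLib.ModLoci

/-! Strict transforms along a Fitting ideal are locally free. -/

set_option autoImplicit false
universe u

open CategoryTheory CategoryTheory.Limits AlgebraicGeometry TopologicalSpace Opposite

namespace StrictModLib

variable {X : Scheme.{u}}

/-- The germ of a section killed by a nonzerodivisor power and vanishing off it is zero. -/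
theorem eq_zero_of_res_basicOpen {U : X.Opens} (hU : IsAffineOpen U) {f c : Γ(X, U)}
    (hf : ∀ (y : X) (hy : y ∈ U), X.presheaf.germ U y hy f ∈ nonZeroDivisors (X.presheaf.stalk y))
    (h : (X.presheaf.map (homOfLE (X.basicOpen_le f)).op).hom c = 0) : c = 0 := by
  haveI := hU.isLocalization_basicOpen f
  obtain ⟨⟨_, n, rfl⟩, hn⟩ := (IsLocalization.map_eq_zero_iff (Submonoid.powers f) Γ(X, X.basicOpen f) c).mp h
  refine TopCat.Presheaf.section_ext X.sheaf U c 0 fun y hy => ?_
  show X.presheaf.germ U y hy c = X.presheaf.germ U y hy 0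
  rw [map_zero]
  have h1 := congrArg (X.presheaf.germ U y hy) hn
  rw [map_mul, map_zero, map_pow] at h1
  exact (mul_left_mem_nonZeroDivisors_eq_zero_iff (pow_mem (hf y hy) n)).mp h1

/-- The generators of the strict transform are independent. -/
theorem eq_zero_of_relation {P : X.Modules} [Coh.IsQCoh P] (hft : CohB1.IsFT P)
    (E : X.IdealSheafData) (k : ℕ) (V : X.affineOpens) (f : Γ(X, V.1)) (hf : f ∈ nonZeroDivisors Γ(X, V.1))
    (hE : E.ideal V = Ideal.span {f}) (t : Γ(X, V.1)) (g : Fin k → Γ(P, V.1))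
    (hspan : ∀ r : Γ(X, V.1), X.basicOpen r ≤ X.basicOpen t → X.basicOpen r ≤ X.basicOpen f →
      Submodule.span Γ(X, X.basicOpen r)
        (Set.range fun i => P.presheaf.map (homOfLE (X.basicOpen_le r)).op (g i)) = ⊤)
    (hbot : ∀ O : X.Opens, IsAffineOpen O → O ≤ V.1 → (∀ y ∈ O, y ∉ E.support) →
      ∀ j < k, Fitt.ideal Γ(X, O) Γ(P, O) j = ⊥)
    (U : X.affineOpens) (hUV : U.1 ≤ V.1) (hUt : U.1 ≤ X.basicOpen t) (c : Fin k → Γ(X, U.1))
    (h : BlowUp.KilledByPowerNear E P U (∑ i, c i • P.presheaf.map (homOfLE hUV).op (g i))) : c = 0 := by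
  let fU : Γ(X, U.1) := (X.presheaf.map (homOfLE hUV).op).hom f
  refine funext fun i => eq_zero_of_res_basicOpen U.2 (f := fU) (fun y hy => ?_) ?_
  · rw [TopCat.Presheaf.germ_res_apply]
    exact germ_mem_nonZeroDivisors V.2 _ hf
  refine TopCat.Presheaf.section_ext X.sheaf _ _ 0 fun y hy => ?_
  show X.presheaf.germ _ y hy _ = X.presheaf.germ _ y hy 0
  rw [map_zero, TopCat.Presheaf.germ_res_apply]
  have hyU : y ∈ U.1 := X.basicOpen_le fU hy
  obtain ⟨r, hrle, hyr⟩ := V.2.exists_basicOpen_le (V := X.basicOpen fU) ⟨y, hy⟩ (hUV hyU)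
  have hrU : X.basicOpen r ≤ U.1 := hrle.trans (X.basicOpen_le fU)
  have hrf : X.basicOpen r ≤ X.basicOpen f := fun z hz => by
    have hz' := hrle hz
    rw [Scheme.mem_basicOpen _ _ z (hrU hz)] at hz'
    rw [Scheme.mem_basicOpen _ _ z (hUV (hrU hz))]
    rwa [TopCat.Presheaf.germ_res_apply] at hz'
  have hoff : ∀ z ∈ X.basicOpen r, z ∉ E.support := fun z hz hzE => by
    rw [Scheme.IdealSheafData.mem_support_iff_of_mem (U := V) (hUV (hrU hz)), Scheme.mem_zeroLocus_iff] at hzE
    exact hzE f (hE ▸ Ideal.mem_span_singleton_self f) (hrf hz)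
  have hO : IsAffineOpen (X.basicOpen r) := V.2.basicOpen r
  haveI := QCohLib.finite_of_isFT hft hO
  have hli := FittLib.linearIndependent_of_ideal_eq_bot _ (hspan r (hrU.trans hUt) hrf) (hbot _ hO (X.basicOpen_le r) hoff)
  have hrel : ∑ j, (X.presheaf.map (homOfLE hrU).op).hom (c j) •
      P.presheaf.map (homOfLE (X.basicOpen_le r)).op (g j) = 0 := by
    obtain ⟨n, hn⟩ := h
    have h1 := hn ((fU : Γ(X, U.1)) ^ n) ?_
    · have h2 := congrArg (P.presheaf.map (homOfLE hrU).op) h1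
      rw [QCohLib.map_smul', map_zero, map_sum, map_pow] at h2
      have hu : IsUnit ((X.presheaf.map (homOfLE hrU).op).hom fU) := by
        obtain ⟨u, hu⟩ := (RingedSpace.isUnit_res_basicOpen X.toRingedSpace fU).map
          (X.presheaf.map (homOfLE hrle).op).hom
        exact ⟨u, hu.trans (QCohLib.ringMap_map' _ _ _)⟩
      refine Eq.trans ?_ ((hu.pow n).smul_eq_zero.mp h2)
      exact Finset.sum_congr rfl fun j _ =>
        ((QCohLib.map_smul' P _ _ _).trans (congrArg _ (QCohLib.map_map' P _ _ _))).symm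
    · rw [Scheme.IdealSheafData.ideal_pow, Pi.pow_apply]
      refine Ideal.pow_mem_pow ?_ n
      rw [← E.map_ideal (U := U) (V := V) hUV, hE]
      exact Ideal.mem_map_of_mem _ (Ideal.mem_span_singleton_self f)
  rw [← TopCat.Presheaf.germ_res_apply X.presheaf (homOfLE hrU) y hyr]
  exact (congrArg _ (Fintype.linearIndependent_iff.mp hli _ hrel i)).trans (map_zero _)

end StrictModLib

namespace StrictModLib

variable {X : Scheme.{u}}

/-- An ideal sheaf vanishing on an affine open subscheme has zero ideal there. -/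
theorem ideal_eq_bot_of_comap (J : X.IdealSheafData) (O : X.affineOpens) (h : J.comap O.1.ι = ⊥) :
    J.ideal O = ⊥ := by
  haveI : IsAffine (O.1 : Scheme.{u}) := O.2
  have e : (⊤ : (O.1 : Scheme.{u}).Opens) ≤ O.1.ι ⁻¹ᵁ O.1 := le_of_eq O.1.ι_preimage_self.symm
  have h1 := Groth.Agent.S4666.ideal_comap_eq J O.1.ι O ⟨⊤, isAffineOpen_top _⟩ e
  rw [h] at h1
  have hinj : Function.Injective (O.1.ι.appLE O.1 ⊤ e).hom := by
    rw [Scheme.Opens.ι_appLE]
    rw [Subsingleton.elim (homOfLE _) (eqToHom O.1.ι_image_top)]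
    exact (ConcreteCategory.bijective_of_isIso (X.presheaf.map (eqToHom O.1.ι_image_top).op)).1
  exact eq_bot_iff.mpr fun a ha => Ideal.mem_bot.mpr (hinj ((Ideal.mem_bot.mp (h1.ge (Ideal.mem_map_of_mem _ ha))).trans
    (map_zero _).symm))

/-- Near a point where `E = Fit_k` is generated by a nonzerodivisor, with vanishing lower Fitting ideals off it,
the strict transform is free of rank `k`. -/
theorem exists_free_nhd_strict {P G : X.Modules} [Coh.IsQCoh P] (hft : CohB1.IsFT P) (π : P ⟶ G) [Epi π]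
    (E : X.IdealSheafData) (k : ℕ) (V : X.affineOpens) {x : X} (hx : x ∈ V.1) (f : Γ(X, V.1))
    (hf : f ∈ nonZeroDivisors Γ(X, V.1)) (hEV : E.ideal V = Ideal.span {f})
    (hFit : Fitt.ideal Γ(X, V.1) Γ(P, V.1) k = Ideal.span {f})
    (hπ : ∀ (W : X.affineOpens) (m : P.presheaf.obj (op W.1)), π.app W.1 m = 0 ↔ BlowUp.KilledByPowerNear E P W m)
    (hbot : ∀ O : X.Opens, IsAffineOpen O → O ≤ V.1 → (∀ y ∈ O, y ∉ E.support) →
      ∀ j < k, Fitt.ideal Γ(X, O) Γ(P, O) j = ⊥) :
    ∃ U : X.Opens, x ∈ U ∧ Nonempty (G.restrict U.ι ≅ FlatMod.freeMod (↑U) k) := by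
  obtain ⟨t, g, hxt, hgen, hspan⟩ := exists_strict_gens hft π E (fun W m => (hπ W m).mpr) k V hx f hEV hFit
  let D := X.basicOpen t
  have hgt := QCohLib.genTop_restrict hgen
  obtain ⟨q, hq, hqe⟩ : ∃ q : FlatMod.freeMod (↑D) k ⟶ G.restrict D.ι, Epi q ∧
      ∀ (U : (D : Scheme.{u}).Opens) (i : Fin k), q.app U (FittLib.stdSec _ k U i) =
        G.presheaf.map (homOfLE ((D.ι_image_le U).trans (X.basicOpen_le t))).op (π.app V.1 (g i)) := by
    obtain ⟨q, hq, hqs⟩ := exists_epi_free hgt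
    refine ⟨q, hq, fun U i => ?_⟩
    have h1 := congrArg (fun φ : Coh.structureModule (D : Scheme.{u}) ⟶ G.restrict D.ι => φ.app U (1 : Γ(D, U))) (hqs i)
    refine h1.trans ?_
    change (QCohLib.unitHom (G.restrict D.ι) _).app U (1 : Γ(D, U)) = _
    rw [QCohLib.unitHom_app, one_smul]
    refine (QCohLib.map_map' G _ _ _).trans ?_
    exact QCohLib.map_map' G _ _ _
  haveI := hq
  haveI : Mono q := by
    refine GrModLib6.mono_of_app_injective q fun U => (injective_iff_map_eq_zero _).mpr fun e he => ?_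
    rw [FittLib.sum_coord e]
    refine Finset.sum_eq_zero fun i _ => ?_
    suffices hc : FittLib.coord e i = 0 by rw [hc, zero_smul]
    let U' := D.ι ''ᵁ U
    let c : Fin k → Γ(X, U') := fun j => FittLib.coord (Z := (D : Scheme.{u})) (V := U) e j
    have hU't : U' ≤ D := D.ι_image_le U
    have h0 : ∑ j, c j • G.presheaf.map (homOfLE (hU't.trans (X.basicOpen_le t))).op (π.app V.1 (g j)) = 0 := by
      refine Eq.trans ?_ he
      conv_rhs => rw [FittLib.sum_coord e]
      refine Eq.trans ?_ (map_sum (q.app U).hom _ _).symm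
      refine Finset.sum_congr rfl fun j _ => ?_
      rw [QCohLib.app_smul, hqe U j]
      exact (FittLib.smul_restrict G D U _ _).symm
    refine TopCat.Presheaf.section_ext X.sheaf U' (c i) 0 fun y hy => ?_
    show X.presheaf.germ U' y hy (c i) = X.presheaf.germ U' y hy 0
    obtain ⟨W, hW, hyW, hWU⟩ := Opens.isBasis_iff_nbhd.mp X.isBasis_affineOpens hy
    have hWV : W ≤ V.1 := hWU.trans (hU't.trans (X.basicOpen_le t))
    have hz := eq_zero_of_relation hft E k V f hf hEV t g hspan hbot ⟨W, hW⟩ hWV (hWU.trans hU't)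
      (fun j => (X.presheaf.map (homOfLE hWU).op).hom (c j)) ((hπ ⟨W, hW⟩ _).mp ?_)
    · rw [map_zero, ← TopCat.Presheaf.germ_res_apply X.presheaf (homOfLE hWU) y hyW]
      exact (congrArg _ (congrFun hz i)).trans (map_zero _)
    · have h1 := congrArg (G.presheaf.map (homOfLE hWU).op) h0
      rw [map_sum, map_zero] at h1
      rw [map_sum]
      refine Eq.trans (Finset.sum_congr rfl fun j _ => ?_) h1
      rw [QCohLib.app_smul, QCohLib.app_map, QCohLib.map_smul']
      exact congrArg _ (QCohLib.map_map' G _ _ _).symm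
  haveI : IsIso q := isIso_of_mono_of_epi q
  exact ⟨D, hxt, ⟨(asIso q).symm⟩⟩

/-- The strict transform along a Fitting ideal is locally free of rank `k` when the lower Fitting ideals vanish
off the centre. -/
theorem isFinLocFreeOfRank_strict {P G : X.Modules} [Coh.IsQCoh P] (hft : CohB1.IsFT P) (π : P ⟶ G) [Epi π]
    (E : X.IdealSheafData) (hE : BlowUp.IsEffCartierIdeal E) (k : ℕ) (hFit : Fitt.sheafIdeal P k = E)
    (hπ : ∀ (V : X.affineOpens) (m : P.presheaf.obj (op V.1)), π.app V.1 m = 0 ↔ BlowUp.KilledByPowerNear E P V m)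
    (hbot : ∀ O : X.Opens, IsAffineOpen O → (∀ y ∈ O, y ∉ E.support) →
      ∀ j < k, Fitt.ideal Γ(X, O) Γ(P, O) j = ⊥) :
    FlatMod.IsFinLocFreeOfRank k G := fun x => by
  obtain ⟨V, hx, f, hf, hEV⟩ := hE x
  exact exists_free_nhd_strict hft π E k V hx f hf hEV
    (by rw [← FittLib.sheafIdeal_ideal _ hft k V, hFit]; exact hEV) hπ fun O hO _ => hbot O hO

end StrictModLib

namespace StrictModLib

/-- Lower Fitting ideals of a pullback vanish over an open where the module is free of rank `k`. -/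
theorem fitt_pullback_eq_bot {S T : Scheme.{u}} (F : S.Modules) [Coh.IsQCoh F] (hft : CohB1.IsFT F) (W₀ : S.Opens)
    (k : ℕ) (hfree : FlatMod.IsFinLocFreeOfRank k (F.restrict W₀.ι)) (b : T ⟶ S) (O : T.Opens) (hO : IsAffineOpen O)
    (hOW : ∀ y ∈ O, b y ∈ W₀) (j : ℕ) (hj : j < k) :
    Fitt.ideal Γ(T, O) Γ((Scheme.Modules.pullback b).obj F, O) j = ⊥ := by
  haveI : Coh.IsQCoh ((Scheme.Modules.pullback b).obj F) := KFlatLib.isQCoh_pullback b F
  haveI : Coh.IsQCoh ((Scheme.Modules.pullback W₀.ι).obj F) := KFlatLib.isQCoh_pullback W₀.ι F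
  haveI : Coh.IsQCoh (F.restrict W₀.ι) := inferInstance
  have hft₀ := ConsLib.isFT_pullback W₀.ι F hft
  let iso := (Scheme.Modules.restrictFunctorIsoPullback W₀.ι).app F
  have hft₁ : CohB1.IsFT (F.restrict W₀.ι) := QCohLib.isFT_of_iso iso.symm hft₀
  rw [← FittLib.sheafIdeal_ideal _ (ConsLib.isFT_pullback b F hft) j ⟨O, hO⟩, ← FittLib.sheafIdeal_comap b F hft j]
  refine ideal_eq_bot_of_comap _ ⟨O, hO⟩ ?_
  have hrange : Set.range (O.ι ≫ b) ⊆ Set.range W₀.ι := by
    rw [Scheme.Opens.range_ι]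
    rintro _ ⟨y, rfl⟩
    exact hOW _ y.2
  let l : (O : Scheme.{u}) ⟶ W₀ := IsOpenImmersion.lift W₀.ι (O.ι ≫ b) hrange
  rw [← Scheme.IdealSheafData.comap_comp, ← IsOpenImmersion.lift_fac W₀.ι (O.ι ≫ b) hrange,
    Scheme.IdealSheafData.comap_comp _ l W₀.ι, FittLib.sheafIdeal_comap W₀.ι F hft j,
    ← FittLib.sheafIdeal_congr iso hft₁ hft₀ j,
    ((FittLib.isFinLocFreeOfRank_iff _ hft₁ k).mp hfree).1 j hj, Scheme.IdealSheafData.comap_bot]

end StrictModLib
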