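import Groth.Agent.StrictModLib.FittFree
import Groth.Agent.LocSuppLib.LocFree
import Groth.Agent.KFlatLib.PerfectPull

/-! Rank loci of finite locally free modules. -/

set_option autoImplicit false
universe u

open CategoryTheory CategoryTheory.Limits AlgebraicGeometry TopologicalSpace Opposite

namespace StrictModLib

variable {X : Scheme.{u}} (M : X.Modules)

/-- The points where `M` has rank `r`, read from its Fitting ideals. -/
def rankSet (r : ℕ) : Set X :=
  {x | x ∉ (Fitt.sheafIdeal M r).support ∧ ∀ k < r, x ∈ (Fitt.sheafIdeal M k).support}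

theorem rankSet_unique {r r' : ℕ} {x : X} (h : x ∈ rankSet M r) (h' : x ∈ rankSet M r') : r = r' := by
  rcases lt_trichotomy r r' with hlt | rfl | hlt
  · exact absurd (h'.2 r hlt) h.1
  · rfl
  · exact absurd (h.2 r' hlt) h'.1

variable {M}

/-- On an open where `M` is free of rank `n` the Fitting ideals are `⊥` below `n` and `⊤` from `n` on. -/
theorem comap_fitt_of_free [Coh.IsQCoh M] (hft : CohB1.IsFT M) {U : X.Opens} {n : ℕ}
    (e : M.restrict U.ι ≅ FlatMod.freeMod (↑U) n) (k : ℕ) :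
    (k < n → (Fitt.sheafIdeal M k).comap U.ι = ⊥) ∧ (n ≤ k → (Fitt.sheafIdeal M k).comap U.ι = ⊤) := by
  haveI : Coh.IsQCoh (M.restrict U.ι) := inferInstance
  haveI : Coh.IsQCoh ((Scheme.Modules.pullback U.ι).obj M) := KFlatLib.isQCoh_pullback U.ι M
  have hft₀ := ConsLib.isFT_pullback U.ι M hft
  let iso := (Scheme.Modules.restrictFunctorIsoPullback U.ι).app M
  have hft₁ : CohB1.IsFT (M.restrict U.ι) := QCohLib.isFT_of_iso iso.symm hft₀
  have hfree : FlatMod.IsFinLocFreeOfRank n (M.restrict U.ι) := fun x =>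
    ⟨⊤, trivial, ⟨(Scheme.Modules.restrictFunctor (⊤ : (U : Scheme.{u}).Opens).ι).mapIso e ≪≫
      (Scheme.Modules.restrictFunctorIsoPullback (⊤ : (U : Scheme.{u}).Opens).ι).app _ ≪≫
      KFlatLib.pullFreeIso (⊤ : (U : Scheme.{u}).Opens).ι n⟩⟩
  obtain ⟨h1, h2⟩ := (FittLib.isFinLocFreeOfRank_iff _ hft₁ n).mp hfree
  refine ⟨fun hk => ?_, fun hk => ?_⟩ <;>
    rw [FittLib.sheafIdeal_comap U.ι M hft k, ← FittLib.sheafIdeal_congr iso hft₁ hft₀ k]
  exacts [h1 k hk, h2 k hk]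

theorem subset_rankSet_of_free [Coh.IsQCoh M] (hft : CohB1.IsFT M) {U : X.Opens} {n : ℕ}
    (e : M.restrict U.ι ≅ FlatMod.freeMod (↑U) n) : (U : Set X) ⊆ rankSet M n := fun x hx => by
  have key : ∀ k, x ∈ (Fitt.sheafIdeal M k).support ↔
      (⟨x, hx⟩ : (U : Scheme.{u})) ∈ ((Fitt.sheafIdeal M k).comap U.ι).support := fun k => by
    rw [Scheme.IdealSheafData.support_comap]
    rfl
  refine ⟨fun h => ?_, fun k hk => ?_⟩
  · rw [key, (comap_fitt_of_free hft e n).2 le_rfl, Scheme.IdealSheafData.support_top] at h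
    exact h
  · rw [key, (comap_fitt_of_free hft e k).1 hk, Scheme.IdealSheafData.support_bot]
    trivial

theorem exists_rankSet (hM : FlatMod.IsFinLocFree M) (x : X) :
    ∃ (r : ℕ) (U : X.Opens), x ∈ U ∧ (U : Set X) ⊆ rankSet M r ∧ Nonempty (M.restrict U.ι ≅ FlatMod.freeMod (↑U) r) := by
  obtain ⟨U, n, hx, ⟨e⟩⟩ := hM x
  have hc := LocSuppLib.isCoh_of_isFinLocFree hM
  haveI := hc.1
  exact ⟨n, U, hx, subset_rankSet_of_free hc.2 e, ⟨e⟩⟩

theorem isOpen_rankSet (hM : FlatMod.IsFinLocFree M) (r : ℕ) : IsOpen (rankSet M r) :=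
  isOpen_iff_forall_mem_open.mpr fun x hx => by
    obtain ⟨n, U, hxU, hU, -⟩ := exists_rankSet hM x
    exact ⟨U, rankSet_unique M hx (hU hxU) ▸ hU, U.isOpen, hxU⟩

theorem isClosed_rankSet (hM : FlatMod.IsFinLocFree M) (r : ℕ) : IsClosed (rankSet M r) := by
  refine ⟨isOpen_iff_forall_mem_open.mpr fun x hx => ?_⟩
  obtain ⟨n, U, hxU, hU, -⟩ := exists_rankSet hM x
  exact ⟨U, fun y hy hy' => hx (rankSet_unique M hy' (hU hy) ▸ hU hxU), U.isOpen, hxU⟩

theorem exists_finset_rankSet [CompactSpace X] (hM : FlatMod.IsFinLocFree M) :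
    ∃ R : Finset ℕ, ∀ x : X, ∃ r ∈ R, x ∈ rankSet M r := by
  classical
  obtain ⟨R, hR⟩ := isCompact_univ.elim_finite_subcover (fun r => rankSet M r) (isOpen_rankSet hM) fun x _ => by
    obtain ⟨r, U, hxU, hU, -⟩ := exists_rankSet hM x
    exact Set.mem_iUnion.mpr ⟨r, hU hxU⟩
  exact ⟨R, fun x => by
    obtain ⟨r, hr, hx⟩ := Set.mem_iUnion₂.mp (hR (Set.mem_univ x))
    exact ⟨r, hr, hx⟩⟩

/-- Below the rank the Fitting ideal sheaves vanish on an affine inside the rank locus. -/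
theorem fitt_ideal_eq_bot (hM : FlatMod.IsFinLocFree M) {O : X.affineOpens} {r k : ℕ}
    (hO : (O.1 : Set X) ⊆ rankSet M r) (hk : k < r) : (Fitt.sheafIdeal M k).ideal O = ⊥ := by
  have hc := LocSuppLib.isCoh_of_isFinLocFree hM
  haveI := hc.1
  refine eq_bot_iff.mpr fun a ha => Ideal.mem_bot.mpr ?_
  refine TopCat.Presheaf.section_ext X.sheaf _ a 0 fun y hy => ?_
  show X.presheaf.germ O.1 y hy a = X.presheaf.germ O.1 y hy 0
  obtain ⟨n, U, hyU, hU, ⟨e⟩⟩ := exists_rankSet hM y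
  obtain rfl : n = r := rankSet_unique M (hU hyU) (hO hy)
  obtain ⟨W, hW, hyW, hWU⟩ := Opens.isBasis_iff_nbhd.mp X.isBasis_affineOpens
    (show y ∈ U ⊓ O.1 from ⟨hyU, hy⟩)
  have h0 : (Fitt.sheafIdeal M k).ideal ⟨W, hW⟩ = ⊥ := by
    refine ideal_eq_bot_of_comap _ ⟨W, hW⟩ ?_
    rw [← Scheme.homOfLE_ι X (hWU.trans inf_le_left), Scheme.IdealSheafData.comap_comp,
      (comap_fitt_of_free hc.2 e k).1 hk, Scheme.IdealSheafData.comap_bot]
  have h1 : (X.presheaf.map (homOfLE (hWU.trans inf_le_right)).op).hom a = 0 := Ideal.mem_bot.mp (h0 ▸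
    ((Fitt.sheafIdeal M k).map_ideal (U := ⟨W, hW⟩) (V := O) (hWU.trans inf_le_right)).le
      (Ideal.mem_map_of_mem _ ha))
  rw [map_zero, ← TopCat.Presheaf.germ_res_apply X.presheaf (homOfLE (hWU.trans inf_le_right)) y hyW]
  exact (congrArg _ h1).trans (map_zero _)

end StrictModLib
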